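import Cfsg.Agent.H716.K547.Mono

/-!
# S4547 (helper716): `PSL_n(q)`, `q ≡ 1 mod 4`: every automorphism fixes the monomial group up to inner automorphisms,
and acts trivially on the permutations
-/

set_option autoImplicit false

namespace Cfsg.Agent.H716.K547

open Matrix Equiv
open Cfsg.Agent.ClassicalGeometry.AutPSL.Root
open Cfsg.Agent.ClassicalGeometry.AutPSL.Auto
open Cfsg.Agent.ClassicalGeometry.AutPSL.Main
open Cfsg.Agent.H183.OutPSL

variable {F : Type*} [Field F] {n : ℕ}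

theorem ispm_cj {D : GL (Fin n) F} {d : Fin n → F} (hD : (D : Matrix (Fin n) (Fin n) F) = diagonal d)
    (hd : ∀ i, d i ≠ 0) {x : Matrix.SpecialLinearGroup (Fin n) F} {π : Perm (Fin n)}
    (h : IsPM (x : Matrix (Fin n) (Fin n) F) π) :
    IsPM ((cj D x : Matrix.SpecialLinearGroup (Fin n) F) : Matrix (Fin n) (Fin n) F) π := by
  have hDi : ((D⁻¹ : GL (Fin n) F) : Matrix (Fin n) (Fin n) F) = diagonal fun i => (d i)⁻¹ := by
    have h1 : ((D⁻¹ : GL (Fin n) F) : Matrix (Fin n) (Fin n) F) * diagonal d = 1 := by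
      rw [← hD, ← Units.val_mul, inv_mul_cancel, Units.val_one]
    have h2 : diagonal d * (diagonal fun i => (d i)⁻¹) = (1 : Matrix (Fin n) (Fin n) F) := by
      rw [diagonal_mul_diagonal, ← diagonal_one]
      congr 1
      funext i
      exact mul_inv_cancel₀ (hd i)
    calc ((D⁻¹ : GL (Fin n) F) : Matrix (Fin n) (Fin n) F) =
        ((D⁻¹ : GL (Fin n) F) : Matrix (Fin n) (Fin n) F) * (diagonal d * (diagonal fun i => (d i)⁻¹)) := by
          rw [h2, mul_one]
      _ = diagonal fun i => (d i)⁻¹ := by rw [← mul_assoc, h1, one_mul]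
  intro i j
  rw [coe_cj, hD, hDi, mul_diagonal, diagonal_mul, mul_ne_zero_iff, mul_ne_zero_iff, h i j]
  exact ⟨fun h1 => h1.1.2, fun h1 => ⟨⟨hd i, h1⟩, inv_ne_zero (hd j)⟩⟩

theorem ispm_fld (σ : F ≃+* F) {x : Matrix.SpecialLinearGroup (Fin n) F} {π : Perm (Fin n)}
    (h : IsPM (x : Matrix (Fin n) (Fin n) F) π) :
    IsPM ((fld σ x : Matrix.SpecialLinearGroup (Fin n) F) : Matrix (Fin n) (Fin n) F) π := by
  intro i j
  rw [coe_fld_apply, ← h i j]
  constructor
  · intro h1 h2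
    exact h1 (by rw [h2, map_zero])
  · intro h1 h2
    exact h1 (σ.injective (by rw [h2, map_zero]))

theorem ispm_itr {x : Matrix.SpecialLinearGroup (Fin n) F} {π : Perm (Fin n)}
    (h : IsPM (x : Matrix (Fin n) (Fin n) F) π) :
    IsPM ((itr x : Matrix.SpecialLinearGroup (Fin n) F) : Matrix (Fin n) (Fin n) F) π := by
  rw [coe_itr]
  have h1 : IsPM ((x⁻¹ : Matrix.SpecialLinearGroup (Fin n) F) : Matrix (Fin n) (Fin n) F) π⁻¹ :=
    h.inv (by rw [← Matrix.SpecialLinearGroup.coe_mul, inv_mul_cancel, Matrix.SpecialLinearGroup.coe_one])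
  have h2 := h1.transpose
  rwa [inv_inv] at h2

/-- the projection of the monomial group -/
def prM : Mon F n →* (Mon F n).map (pr : Matrix.SpecialLinearGroup (Fin n) F →* _) :=
  (pr : Matrix.SpecialLinearGroup (Fin n) F →* _).subgroupMap (Mon F n)

theorem prM_surjective : Function.Surjective (prM : Mon F n →* _) := MonoidHom.subgroupMap_surjective _ _

theorem pm_of_center {x : Mon F n} (h : (x : Matrix.SpecialLinearGroup (Fin n) F) ∈
    Subgroup.center (Matrix.SpecialLinearGroup (Fin n) F)) : pm x = 1 := by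
  obtain ⟨r, hr, hx⟩ := Matrix.SpecialLinearGroup.mem_center_iff.1 h
  refine pm_eq ?_
  intro i j
  rw [Perm.one_apply, ← hx]
  have hr0 : r ≠ 0 := by
    rintro rfl
    have h1 := x.1.2
    rw [← hx] at h1
    rcases Nat.eq_zero_or_pos n with hn | hn
    · subst hn
      exact i.elim0
    · rw [scalar_apply, det_diagonal, Finset.prod_const, Finset.card_univ, Fintype.card_fin, zero_pow (by omega)] at h1
      exact zero_ne_one h1
  rw [scalar_apply]
  by_cases hij : i = j
  · subst hij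
    simp [hr0]
  · simp [hij]

theorem ker_prM_le : (prM : Mon F n →* _).ker ≤ (pm : Mon F n →* Perm (Fin n)).ker := by
  intro x hx
  rw [MonoidHom.mem_ker] at hx ⊢
  refine pm_of_center ?_
  have h1 : pr (x : Matrix.SpecialLinearGroup (Fin n) F) = 1 := congrArg Subtype.val hx
  exact (pr_eq_one_iff _).1 h1

/-- the permutation of an element of the image of the monomial group -/
noncomputable def pq : (Mon F n).map (pr : Matrix.SpecialLinearGroup (Fin n) F →* _) →* Perm (Fin n) :=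
  (prM : Mon F n →* _).liftOfSurjective prM_surjective ⟨pm, ker_prM_le⟩

theorem pq_prM (x : Mon F n) : pq (prM x) = pm x :=
  MonoidHom.liftOfRightInverse_comp_apply _ _ (Function.rightInverse_surjInv prM_surjective) ⟨pm, ker_prM_le⟩ x

/-- decomposition of the elements of `GL_n` -/
theorem exists_decomp (hn : 1 ≤ n) (A : GL (Fin n) F) : ∃ (B : Matrix.SpecialLinearGroup (Fin n) F) (D : GL (Fin n) F)
    (d : Fin n → F), (D : Matrix (Fin n) (Fin n) F) = diagonal d ∧ (∀ i, d i ≠ 0) ∧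
      A = Matrix.SpecialLinearGroup.toGL B * D := by
  classical
  let a : Fˣ := Matrix.GeneralLinearGroup.det A
  let i0 : Fin n := ⟨0, by omega⟩
  let d : Fin n → Fˣ := Pi.mulSingle i0 a
  let D : GL (Fin n) F := ⟨diagonal fun i => (d i : F), diagonal fun i => ((d i)⁻¹ : Fˣ), by
      rw [diagonal_mul_diagonal, ← diagonal_one]
      congr 1
      funext i
      exact Units.mul_inv _, by
      rw [diagonal_mul_diagonal, ← diagonal_one]
      congr 1
      funext i
      exact Units.inv_mul _⟩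
  have hD : (D : Matrix (Fin n) (Fin n) F).det = a := by
    show (diagonal fun i => (d i : F)).det = a
    rw [det_diagonal, ← Units.coe_prod, Finset.prod_eq_single i0]
    · show ((Pi.mulSingle i0 a : Fin n → Fˣ) i0 : F) = a
      rw [Pi.mulSingle_eq_same]
    · intro i _ hi
      exact Pi.mulSingle_eq_of_ne hi _
    · intro h
      exact absurd (Finset.mem_univ _) h
  have hdet : ((A * D⁻¹ : GL (Fin n) F) : Matrix (Fin n) (Fin n) F).det = 1 := by
    have h1 : ((A * D⁻¹ : GL (Fin n) F) : Matrix (Fin n) (Fin n) F).det * (D : Matrix (Fin n) (Fin n) F).det = a := by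
      rw [← det_mul, ← Units.val_mul, inv_mul_cancel_right]
      rfl
    rw [hD] at h1
    exact mul_right_cancel₀ a.ne_zero (by rw [h1, one_mul])
  refine ⟨⟨_, hdet⟩, D, fun i => (d i : F), rfl, fun i => (d i).ne_zero, ?_⟩
  have h2 : Matrix.SpecialLinearGroup.toGL (⟨((A * D⁻¹ : GL (Fin n) F) : Matrix (Fin n) (Fin n) F), hdet⟩ :
      Matrix.SpecialLinearGroup (Fin n) F) = A * D⁻¹ := Units.ext rfl
  rw [h2, inv_mul_cancel_right]

/-- the automorphisms preserving the monomial group -/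
def Pres (α : MulAut (Matrix.SpecialLinearGroup (Fin n) F)) : Prop :=
  ∀ (x : Matrix.SpecialLinearGroup (Fin n) F) (π : Perm (Fin n)), IsPM (x : Matrix (Fin n) (Fin n) F) π →
    IsPM ((α x : Matrix.SpecialLinearGroup (Fin n) F) : Matrix (Fin n) (Fin n) F) π

/-- **automorphisms and the monomial group** -/
theorem exists_inv [Fintype F] (h1 : Fintype.card F % 4 = 1) (hn : 3 ≤ n)
    (τ : MulAut (ProjectiveSpecialLinearGroup (Fin n) F)) :
    ∃ (M : Subgroup (ProjectiveSpecialLinearGroup (Fin n) F)) (s : ProjectiveSpecialLinearGroup (Fin n) F)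
      (f : M →* Perm (Fin n)), ¬ 2 ∣ M.index ∧ Function.Surjective f ∧
      ∀ m : M, ∃ h : s * τ m * s⁻¹ ∈ M, f ⟨s * τ m * s⁻¹, h⟩ = f m := by
  obtain ⟨p, hp⟩ := CharP.exists F
  have : Fact p.Prime := ⟨CharP.char_is_prime F p⟩
  have key : ∃ (B : Matrix.SpecialLinearGroup (Fin n) F) (α : MulAut (Matrix.SpecialLinearGroup (Fin n) F)),
      Pres α ∧ τ = MulAut.conj (pr B) * lift α := by
    rcases surj_three p hn τ with ⟨A, σ, rfl⟩ | ⟨A, σ, rfl⟩
    · obtain ⟨B, D, d, hD, hd, rfl⟩ := exists_decomp (by omega) A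
      refine ⟨B, cj D * fld σ, fun x π h => ?_, ?_⟩
      · exact ispm_cj hD hd (ispm_fld σ h)
      · rw [← lift_cj_toGL, ← map_mul, ← mul_assoc, ← map_mul]
    · obtain ⟨B, D, d, hD, hd, rfl⟩ := exists_decomp (by omega) A
      refine ⟨B, cj D * fld σ * itr, fun x π h => ?_, ?_⟩
      · exact ispm_cj hD hd (ispm_fld σ (ispm_itr h))
      · rw [← lift_cj_toGL, ← map_mul, ← mul_assoc, ← mul_assoc, ← map_mul]
  obtain ⟨B, α, hα, rfl⟩ := key
  refine ⟨(Mon F n).map pr, (pr B)⁻¹, pq, ?_, ?_, ?_⟩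
  · intro hd
    exact odd_index h1 (by omega) (hd.trans (Subgroup.index_map_dvd _ pr_surjective))
  · intro π
    obtain ⟨x, hx⟩ := pm_surjective (F := F) (n := n) (by omega) π
    exact ⟨prM x, by rw [pq_prM, hx]⟩
  · rintro ⟨m, hm⟩
    obtain ⟨x, hx⟩ := prM_surjective (⟨m, hm⟩ : (Mon F n).map (pr : Matrix.SpecialLinearGroup (Fin n) F →* _))
    have hxm : pr (x : Matrix.SpecialLinearGroup (Fin n) F) = m := congrArg Subtype.val hx
    have h2 := hα x (pm x) (pm_spec x)
    have hmem : α (x : Matrix.SpecialLinearGroup (Fin n) F) ∈ Mon F n := ⟨_, h2⟩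
    have h3 : (pr B)⁻¹ * (MulAut.conj (pr B) * lift α) m * (pr B)⁻¹⁻¹ = pr (α x) := by
      rw [← hxm, MulAut.mul_apply, lift_pr, MulAut.conj_apply]
      group
    refine ⟨?_, ?_⟩
    · show (pr B)⁻¹ * (MulAut.conj (pr B) * lift α) m * (pr B)⁻¹⁻¹ ∈ _
      rw [h3]
      exact ⟨_, hmem, rfl⟩
    · have h4 : (⟨(pr B)⁻¹ * (MulAut.conj (pr B) * lift α) m * (pr B)⁻¹⁻¹, by rw [h3]; exact ⟨_, hmem, rfl⟩⟩ :
          (Mon F n).map (pr : Matrix.SpecialLinearGroup (Fin n) F →* _)) = prM ⟨α x, hmem⟩ := Subtype.ext h3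
      show pq (⟨(pr B)⁻¹ * (MulAut.conj (pr B) * lift α) m * (pr B)⁻¹⁻¹, _⟩ :
          (Mon F n).map (pr : Matrix.SpecialLinearGroup (Fin n) F →* _)) = pq ⟨m, hm⟩
      rw [h4, pq_prM, ← hx, pq_prM]
      exact pm_eq h2

end Cfsg.Agent.H716.K547
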