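import Cfsg.Agent.H637.TwoAdic
import Cfsg.Agent.H183.OutPSL

/-!
# S4547 (helper716): the monomial subgroup of `SL_n(q)`, `q ≡ 1 mod 4`

* `IsPM x π` : `x` is monomial with permutation `π`;
* `Mon F n` : the monomial subgroup of `SL_n(F)`, `pm : Mon F n →* Perm (Fin n)` (surjective);
* `odd_index` : `|SL_n(q) : Mon|` is odd if `q ≡ 1 mod 4`.
-/

set_option autoImplicit false

namespace Cfsg.Agent.H716.K547

open Matrix Equiv

variable {F : Type*} [Field F] {n : ℕ}

theorem aiv (π : Perm (Fin n)) (j : Fin n) : π (π⁻¹ j) = j := Equiv.apply_symm_apply π j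

theorem iav (π : Perm (Fin n)) (j : Fin n) : π⁻¹ (π j) = j := Equiv.symm_apply_apply π j

/-- monomial matrices -/
def IsPM (x : Matrix (Fin n) (Fin n) F) (π : Perm (Fin n)) : Prop := ∀ i j, x i j ≠ 0 ↔ i = π j

theorem IsPM.zero {x : Matrix (Fin n) (Fin n) F} {π : Perm (Fin n)} (h : IsPM x π) {i j : Fin n} (hij : i ≠ π j) :
    x i j = 0 := by
  by_contra h0
  exact hij ((h i j).1 h0)

theorem IsPM.ne_zero {x : Matrix (Fin n) (Fin n) F} {π : Perm (Fin n)} (h : IsPM x π) (j : Fin n) :
    x (π j) j ≠ 0 := (h _ _).2 rfl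

theorem IsPM.unique {x : Matrix (Fin n) (Fin n) F} {π ρ : Perm (Fin n)} (h : IsPM x π) (h' : IsPM x ρ) : π = ρ := by
  apply Equiv.ext
  intro j
  exact (h' _ _).1 (h.ne_zero j)

theorem IsPM.one : IsPM (1 : Matrix (Fin n) (Fin n) F) 1 := by
  intro i j
  rw [Perm.one_apply]
  by_cases h : i = j
  · subst h
    simp
  · simp [Matrix.one_apply_ne h, h]

theorem IsPM.mul {x y : Matrix (Fin n) (Fin n) F} {π ρ : Perm (Fin n)} (h : IsPM x π) (h' : IsPM y ρ) :
    IsPM (x * y) (π * ρ) := by
  intro i j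
  have h1 : (x * y) i j = x i (ρ j) * y (ρ j) j := by
    rw [Matrix.mul_apply]
    refine Finset.sum_eq_single (ρ j) (fun k _ hk => ?_) fun hk => absurd (Finset.mem_univ _) hk
    rw [h'.zero hk, mul_zero]
  rw [h1, Perm.mul_apply, mul_ne_zero_iff, h i (ρ j)]
  exact ⟨fun h2 => h2.1, fun h2 => ⟨h2, h'.ne_zero j⟩⟩

theorem IsPM.inv {x y : Matrix (Fin n) (Fin n) F} {π : Perm (Fin n)} (h : IsPM x π) (hyx : y * x = 1) :
    IsPM y π⁻¹ := by
  have key : ∀ i j, y i (π j) * x (π j) j = (1 : Matrix (Fin n) (Fin n) F) i j := by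
    intro i j
    rw [← hyx, Matrix.mul_apply]
    symm
    refine Finset.sum_eq_single (π j) (fun k _ hk => ?_) fun hk => absurd (Finset.mem_univ _) hk
    rw [h.zero hk, mul_zero]
  intro i j
  have h1 := key i (π⁻¹ j)
  rw [aiv] at h1
  have h2 := h.ne_zero (π⁻¹ j)
  rw [aiv] at h2
  by_cases hi : i = π⁻¹ j
  · rw [← hi, Matrix.one_apply_eq] at h1
    refine ⟨fun _ => hi, fun _ h0 => ?_⟩
    rw [h0, zero_mul] at h1
    exact zero_ne_one h1
  · rw [Matrix.one_apply_ne hi] at h1
    refine ⟨fun h0 => absurd h1 (mul_ne_zero h0 h2), fun h0 => absurd h0 hi⟩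

theorem IsPM.transpose {x : Matrix (Fin n) (Fin n) F} {π : Perm (Fin n)} (h : IsPM x π) : IsPM xᵀ π⁻¹ := by
  intro i j
  rw [Matrix.transpose_apply, h j i]
  constructor
  · rintro rfl
    rw [iav]
  · rintro rfl
    rw [aiv]

variable (F n) in
/-- the monomial subgroup of `SL_n(F)` -/
def Mon : Subgroup (Matrix.SpecialLinearGroup (Fin n) F) where
  carrier := {g | ∃ π, IsPM (g : Matrix (Fin n) (Fin n) F) π}
  one_mem' := ⟨1, IsPM.one⟩
  mul_mem' := by
    rintro a b ⟨π, hπ⟩ ⟨ρ, hρ⟩
    exact ⟨π * ρ, hπ.mul hρ⟩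
  inv_mem' := by
    rintro a ⟨π, hπ⟩
    refine ⟨π⁻¹, hπ.inv ?_⟩
    rw [← Matrix.SpecialLinearGroup.coe_mul, inv_mul_cancel, Matrix.SpecialLinearGroup.coe_one]

theorem mem_Mon {g : Matrix.SpecialLinearGroup (Fin n) F} : g ∈ Mon F n ↔ ∃ π, IsPM (g : Matrix (Fin n) (Fin n) F) π :=
  Iff.rfl

/-- the permutation of a monomial matrix -/
noncomputable def pm : Mon F n →* Perm (Fin n) where
  toFun g := g.2.choose
  map_one' := IsPM.unique (Mon F n).one_mem.choose_spec IsPM.one
  map_mul' a b := IsPM.unique (a * b).2.choose_spec (a.2.choose_spec.mul b.2.choose_spec)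

theorem pm_spec (g : Mon F n) : IsPM ((g : Matrix.SpecialLinearGroup (Fin n) F) : Matrix (Fin n) (Fin n) F) (pm g) :=
  g.2.choose_spec

theorem pm_eq {g : Mon F n} {π : Perm (Fin n)}
    (h : IsPM ((g : Matrix.SpecialLinearGroup (Fin n) F) : Matrix (Fin n) (Fin n) F) π) : pm g = π :=
  (pm_spec g).unique h

/-- `pm` is surjective -/
theorem pm_surjective (hn : 1 ≤ n) : Function.Surjective (pm : Mon F n →* Perm (Fin n)) := by
  intro π
  let i0 : Fin n := ⟨0, by omega⟩
  have hsu : IsUnit (((Perm.sign π : ℤˣ) : ℤ) : F) := by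
    rcases Int.units_eq_one_or (Perm.sign π) with h | h <;> rw [h] <;> simp
  let c : Fin n → F := Function.update 1 i0 (((Perm.sign π : ℤˣ) : ℤ) : F)
  have hc : ∏ j, c j = (((Perm.sign π : ℤˣ) : ℤ) : F) := by
    rw [Finset.prod_update_of_mem (Finset.mem_univ i0)]
    simp
  have hc0 : ∀ j, c j ≠ 0 := by
    intro j
    by_cases hj : j = i0
    · subst hj
      simp only [c, Function.update_self]
      exact hsu.ne_zero
    · simp only [c, Function.update_of_ne hj, Pi.one_apply]
      exact one_ne_zero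
  have hdet : ((π⁻¹).permMatrix F * diagonal c).det = 1 := by
    rw [det_mul, det_diagonal, det_permutation, hc]
    rcases Int.units_eq_one_or (Perm.sign π) with h | h <;> rw [Perm.sign_inv, h] <;> simp
  have hpm : IsPM ((π⁻¹).permMatrix F * diagonal c) π := by
    intro i j
    rw [Matrix.mul_diagonal, mul_ne_zero_iff]
    have h1 : (π⁻¹).permMatrix F i j = if π⁻¹ i = j then 1 else 0 := by
      rw [Equiv.Perm.permMatrix, PEquiv.toMatrix_apply]
      simp [Equiv.toPEquiv_apply]
    rw [h1]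
    constructor
    · rintro ⟨h2, -⟩
      by_cases h3 : π⁻¹ i = j
      · rw [← h3, aiv]
      · rw [if_neg h3] at h2
        exact absurd rfl h2
    · rintro rfl
      refine ⟨?_, hc0 j⟩
      rw [iav, if_pos rfl]
      exact one_ne_zero
  exact ⟨⟨⟨_, hdet⟩, π, hpm⟩, pm_eq hpm⟩

/-- the product of the entries -/
def ψ (F : Type*) [Field F] (n : ℕ) : (Fin n → Fˣ) →* Fˣ where
  toFun d := ∏ i, d i
  map_one' := by simp
  map_mul' a b := by simp [Finset.prod_mul_distrib]

/-- the diagonal elements of determinant one -/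
def dia : (ψ F n).ker →* Mon F n where
  toFun d := ⟨⟨diagonal fun i => ((d : Fin n → Fˣ) i : F), by
    rw [det_diagonal, ← Units.coe_prod]
    have : ∏ i, (d : Fin n → Fˣ) i = 1 := d.2
    rw [this, Units.val_one]⟩, 1, by
    intro i j
    rw [Perm.one_apply]
    show (diagonal fun i => ((d : Fin n → Fˣ) i : F)) i j ≠ 0 ↔ i = j
    by_cases h : i = j
    · subst h
      simp
    · simp [h]⟩
  map_one' := by
    apply Subtype.ext
    apply Subtype.ext
    show (diagonal fun i => ((1 : Fˣ) : F)) = 1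
    simp
  map_mul' a b := by
    apply Subtype.ext
    apply Subtype.ext
    show diagonal _ = diagonal _ * diagonal _
    rw [diagonal_mul_diagonal]
    rfl

theorem dia_injective : Function.Injective (dia : (ψ F n).ker →* Mon F n) := by
  intro a b h
  apply Subtype.ext
  funext i
  apply Units.ext
  have h1 := congrArg (fun x : Mon F n => ((x : Matrix.SpecialLinearGroup (Fin n) F) : Matrix (Fin n) (Fin n) F) i i) h
  simpa [dia] using h1

theorem pm_dia (d : (ψ F n).ker) : pm (dia d) = 1 := by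
  refine pm_eq ?_
  intro i j
  rw [Perm.one_apply]
  show (diagonal fun i => ((d : Fin n → Fˣ) i : F)) i j ≠ 0 ↔ i = j
  by_cases h : i = j
  · subst h
    simp
  · simp [h]

section card

variable [Fintype F]

theorem card_ker_ψ (hn : 1 ≤ n) : Nat.card (ψ F n).ker * (Fintype.card F - 1) = (Fintype.card F - 1) ^ n := by
  classical
  have h1 : Function.Surjective (ψ F n) := by
    intro a
    refine ⟨Pi.mulSingle ⟨0, by omega⟩ a, ?_⟩
    show ∏ i, (Pi.mulSingle (⟨0, by omega⟩ : Fin n) a : Fin n → Fˣ) i = a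
    rw [Finset.prod_eq_single (⟨0, by omega⟩ : Fin n)]
    · rw [Pi.mulSingle_eq_same]
    · intro i _ hi
      exact Pi.mulSingle_eq_of_ne hi _
    · intro h
      exact absurd (Finset.mem_univ _) h
  have h2 : Nat.card Fˣ = Fintype.card F - 1 := by rw [Nat.card_units, Nat.card_eq_fintype_card]
  have h3 := Subgroup.card_mul_index (ψ F n).ker
  rw [Subgroup.index_ker, MonoidHom.range_eq_top.2 h1, Subgroup.card_top, h2] at h3
  rw [h3, Nat.card_pi, Finset.prod_const, h2, Finset.card_univ, Fintype.card_fin]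

theorem dvd_card_Mon (hn : 1 ≤ n) : Nat.card (ψ F n).ker * n.factorial ∣ Nat.card (Mon F n) := by
  classical
  have h1 : Nat.card (Mon F n) = Nat.card (pm : Mon F n →* Perm (Fin n)).ker * n.factorial := by
    have h3 := Subgroup.card_mul_index (pm : Mon F n →* Perm (Fin n)).ker
    rw [Subgroup.index_ker, MonoidHom.range_eq_top.2 (pm_surjective hn), Subgroup.card_top, Nat.card_perm,
      Nat.card_fin] at h3
    exact h3.symm
  rw [h1]
  refine Nat.mul_dvd_mul_right ?_ _
  let f : (ψ F n).ker →* (pm : Mon F n →* Perm (Fin n)).ker := dia.codRestrict _ fun d => pm_dia d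
  exact Subgroup.card_dvd_of_injective f fun a b h => dia_injective (congrArg Subtype.val h)

end card

/-! ### 2-parts -/

theorem val_pow {q : ℕ} (h : q % 4 = 1) (hq1 : 1 < q) {i : ℕ} (hi : i ≠ 0) :
    padicValNat 2 (q ^ i - 1) = padicValNat 2 (q - 1) + padicValNat 2 i := by
  have hq : Odd q := Nat.odd_iff.2 (by omega)
  rcases Nat.even_or_odd' i with ⟨j, rfl | rfl⟩
  · have hj : j ≠ 0 := by omega
    rw [H637.val_pow_even q hq hq1 j hj]
    have h1 : q ^ 2 - 1 = (q - 1) * (q + 1) := by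
      have := Nat.sq_sub_sq q 1
      rw [one_pow] at this
      rw [this, mul_comm]
    have h2 : padicValNat 2 (q + 1) = 1 := by
      obtain ⟨k, hk⟩ : ∃ k, q + 1 = 2 * (2 * k + 1) := ⟨(q - 1) / 4, by omega⟩
      rw [hk, padicValNat.mul (by norm_num) (by omega), padicValNat.self (by norm_num),
        padicValNat.eq_zero_of_not_dvd (by omega)]
    rw [h1, padicValNat.mul (by omega) (by omega), h2, padicValNat.mul (by norm_num) hj, padicValNat.self (by norm_num)]
    ring
  · rw [H637.val_pow_odd q hq hq1 j, padicValNat.eq_zero_of_not_dvd (n := 2 * j + 1) (by omega), add_zero]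

/-- the 2-part of the order of `GL_n(q)` -/
theorem val_prod {q : ℕ} (h : q % 4 = 1) (hq1 : 1 < q) (n : ℕ) :
    (∏ i : Fin n, (q ^ n - q ^ (i : ℕ))).factorization 2 = n * (q - 1).factorization 2 + n.factorial.factorization 2 := by
  have hlt : ∀ i : Fin n, q ^ (i : ℕ) < q ^ n := fun i => Nat.pow_lt_pow_right hq1 i.2
  rw [Nat.factorization_prod fun i _ => by have := hlt i; omega, Finset.sum_apply']
  have h1 : ∀ i : Fin n, (q ^ n - q ^ (i : ℕ)).factorization 2 = (q - 1).factorization 2 + (n - (i : ℕ)).factorization 2 := by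
    intro i
    have h2 : q ^ n - q ^ (i : ℕ) = q ^ (i : ℕ) * (q ^ (n - (i : ℕ)) - 1) := by
      rw [Nat.mul_sub, ← pow_add, mul_one]
      congr 2
      have := i.2
      omega
    have h4 : n - (i : ℕ) ≠ 0 := by have := i.2; omega
    have h3 : q ^ (n - (i : ℕ)) - 1 ≠ 0 := by
      have := Nat.one_lt_pow h4 hq1
      omega
    have h5 : (q ^ (i : ℕ)).factorization 2 = 0 := by
      apply Nat.factorization_eq_zero_of_not_dvd
      intro hd
      have := Nat.prime_two.dvd_of_dvd_pow hd
      omega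
    rw [h2, Nat.factorization_mul (pow_ne_zero _ (by omega)) h3, Finsupp.add_apply, h5, zero_add,
      Nat.factorization_def _ Nat.prime_two, Nat.factorization_def _ Nat.prime_two, Nat.factorization_def _ Nat.prime_two,
      val_pow h hq1 h4]
  rw [Finset.sum_congr rfl fun i _ => h1 i, Finset.sum_add_distrib, Finset.sum_const, Finset.card_univ,
    Fintype.card_fin, smul_eq_mul]
  congr 1
  have h6 : n.factorial = ∏ i : Fin n, (n - (i : ℕ)) := by
    rw [← Nat.descFactorial_self, Nat.descFactorial_eq_prod_range, Fin.prod_univ_eq_prod_range (fun i => n - i) n]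
  rw [h6, Nat.factorization_prod fun i _ => by have := i.2; omega, Finset.sum_apply']

/-- **The monomial subgroup has odd index.** -/
theorem odd_index [Fintype F] (h : Fintype.card F % 4 = 1) (hn : 1 ≤ n) : ¬ 2 ∣ (Mon F n).index := by
  have hq1 : 1 < Fintype.card F := Fintype.one_lt_card
  have h1 := Cfsg.Agent.S0242.result (F := F) rfl n hn
  have h2 := Subgroup.card_mul_index (Mon F n)
  obtain ⟨c, hc⟩ := dvd_card_Mon (F := F) hn
  have h3 := card_ker_ψ (F := F) hn
  have hi0 : (Mon F n).index ≠ 0 := Subgroup.index_ne_zero_of_finite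
  have hc0 : c ≠ 0 := by
    rintro rfl
    have : 0 < Nat.card (Mon F n) := Nat.card_pos
    rw [hc, mul_zero] at this
    exact lt_irrefl _ this
  have h4 : ∏ i : Fin n, (Fintype.card F ^ n - Fintype.card F ^ (i : ℕ)) =
      (Fintype.card F - 1) ^ n * n.factorial * c * (Mon F n).index := by
    rw [← h1, ← h2, hc, ← h3]
    ring
  have h5 := val_prod h hq1 n
  rw [h4, Nat.factorization_mul, Nat.factorization_mul, Nat.factorization_mul, Nat.factorization_pow] at h5
  · simp only [Finsupp.add_apply, Finsupp.smul_apply, smul_eq_mul] at h5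
    intro hd
    have h6 := (Nat.Prime.dvd_iff_one_le_factorization Nat.prime_two hi0).1 hd
    omega
  · exact pow_ne_zero _ (by omega)
  · exact Nat.factorial_ne_zero _
  · exact mul_ne_zero (pow_ne_zero _ (by omega)) (Nat.factorial_ne_zero _)
  · exact hc0
  · exact mul_ne_zero (mul_ne_zero (pow_ne_zero _ (by omega)) (Nat.factorial_ne_zero _)) hc0
  · exact hi0

end Cfsg.Agent.H716.K547
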