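import Cfsg.Agent.H821.K547.Defs
import Cfsg.Agent.S0014

/-!
# S4547 (helper716): noncyclic 2-groups map onto `C_2 × C_2`; the Sylow 2-subgroups of `Sym(n)`, `n ≥ 4`
-/

set_option autoImplicit false

namespace Cfsg.Agent.H716.K547

open Cfsg.Agent.H821.K547

universe u

/-- the homomorphism onto `C_2` with a given kernel of index two -/
theorem exists_hom_two {P : Type u} [Group P] [Finite P] (A : Subgroup P) [A.Normal] (hA : A.index = 2) :
    ∃ f : P →* Multiplicative (ZMod 2), ∀ x, f x = 1 ↔ x ∈ A := by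
  have h1 : Nat.card (P ⧸ A) = 2 := by rw [← Subgroup.index_eq_card, hA]
  have h2 : Nat.card (Multiplicative (ZMod 2)) = 2 := by
    rw [Nat.card_eq_fintype_card]
    rfl
  have : Fact (Nat.Prime 2) := ⟨Nat.prime_two⟩
  let e : P ⧸ A ≃* Multiplicative (ZMod 2) := mulEquivOfPrimeCardEq h1 h2
  refine ⟨(e : P ⧸ A →* Multiplicative (ZMod 2)).comp (QuotientGroup.mk' A), fun x => ?_⟩
  show e (QuotientGroup.mk' A x) = 1 ↔ x ∈ A
  rw [EmbeddingLike.map_eq_one_iff]
  exact QuotientGroup.eq_one_iff x

theorem ne_one_iff (x : Multiplicative (ZMod 2)) : x ≠ 1 ↔ x = Multiplicative.ofAdd 1 := by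
  revert x
  decide

/-- two different subgroups of index two -/
theorem rk_two_of_index {P : Type u} [Group P] [Finite P] {A B : Subgroup P} (hA : A.index = 2) (hB : B.index = 2)
    (hne : A ≠ B) : Rk 2 P := by
  have hAn : A.Normal := Subgroup.normal_of_index_eq_two hA
  have hBn : B.Normal := Subgroup.normal_of_index_eq_two hB
  obtain ⟨f, hf⟩ := exists_hom_two A hA
  obtain ⟨g, hg⟩ := exists_hom_two B hB
  have hcard : Nat.card A = Nat.card B := by
    have h1 := Subgroup.card_mul_index A
    have h2 := Subgroup.card_mul_index B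
    rw [hA] at h1
    rw [hB] at h2
    omega
  obtain ⟨x, hxA, hxB⟩ : ∃ x ∈ A, x ∉ B := by
    by_contra hcon
    push Not at hcon
    exact hne (Subgroup.eq_of_le_of_card_ge hcon hcard.ge)
  obtain ⟨y, hyB, hyA⟩ : ∃ y ∈ B, y ∉ A := by
    by_contra hcon
    push Not at hcon
    exact hne (Subgroup.eq_of_le_of_card_ge hcon hcard.le).symm
  let F : P →* Multiplicative (Fin 2 → ZMod 2) :=
    { toFun := fun z => Multiplicative.ofAdd ![(f z).toAdd, (g z).toAdd]
      map_one' := by
        rw [map_one f, map_one g]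
        apply Multiplicative.toAdd.injective
        funext i
        fin_cases i <;> rfl
      map_mul' := fun a b => by
        rw [map_mul f, map_mul g]
        apply Multiplicative.toAdd.injective
        funext i
        fin_cases i <;> rfl }
  refine ⟨F, ?_⟩
  have hfx : f x = 1 := (hf x).2 hxA
  have hgx : g x = Multiplicative.ofAdd 1 := (ne_one_iff _).1 fun h => hxB ((hg x).1 h)
  have hgy : g y = 1 := (hg y).2 hyB
  have hfy : f y = Multiplicative.ofAdd 1 := (ne_one_iff _).1 fun h => hyA ((hf y).1 h)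
  intro v
  have hval : ∀ c : ZMod 2, c = 0 ∨ c = 1 := by decide
  have hF : ∀ z, F z = Multiplicative.ofAdd ![(f z).toAdd, (g z).toAdd] := fun _ => rfl
  rcases hval (v.toAdd 0) with h0 | h0 <;> rcases hval (v.toAdd 1) with h1 | h1
  · refine ⟨1, ?_⟩
    rw [hF, map_one f, map_one g]
    apply Multiplicative.toAdd.injective
    funext i
    fin_cases i
    · exact h0.symm
    · exact h1.symm
  · refine ⟨x, ?_⟩
    rw [hF, hfx, hgx]
    apply Multiplicative.toAdd.injective
    funext i
    fin_cases i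
    · exact h0.symm
    · exact h1.symm
  · refine ⟨y, ?_⟩
    rw [hF, hfy, hgy]
    apply Multiplicative.toAdd.injective
    funext i
    fin_cases i
    · exact h0.symm
    · exact h1.symm
  · refine ⟨x * y, ?_⟩
    rw [hF, map_mul f, map_mul g, hfx, hgx, hfy, hgy, one_mul, mul_one]
    apply Multiplicative.toAdd.injective
    funext i
    fin_cases i
    · exact h0.symm
    · exact h1.symm

/-- **Noncyclic 2-groups.** -/
theorem rk_two_of_not_isCyclic {P : Type u} [Group P] [Finite P] (hP : IsPGroup 2 P) (hc : ¬ IsCyclic P) : Rk 2 P := by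
  have : Fact (Nat.Prime 2) := ⟨Nat.prime_two⟩
  have hne : (⊥ : Subgroup P) ≠ ⊤ := by
    intro h
    apply hc
    have : Subsingleton P := Subgroup.subsingleton_iff.1 (subsingleton_of_bot_eq_top h)
    infer_instance
  obtain ⟨A, hA, -⟩ := (eq_top_or_exists_le_coatom (⊥ : Subgroup P)).resolve_left hne
  obtain ⟨x, hx⟩ : ∃ x, x ∉ A := by
    by_contra hcon
    push Not at hcon
    exact hA.1 (eq_top_iff.2 fun x _ => hcon x)
  have hz : Subgroup.zpowers x ≠ ⊤ := by
    intro h
    exact hc ⟨x, fun y => by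
      have : y ∈ (⊤ : Subgroup P) := trivial
      rwa [← h] at this⟩
  obtain ⟨B, hB, hxB⟩ := (eq_top_or_exists_le_coatom (Subgroup.zpowers x)).resolve_left hz
  have hAB : A ≠ B := by
    rintro rfl
    exact hx (hxB (Subgroup.mem_zpowers x))
  exact rk_two_of_index (Cfsg.Agent.S0014.coatom_normal_index hP hA).2 (Cfsg.Agent.S0014.coatom_normal_index hP hB).2 hAB

/-- a group containing a four-group has noncyclic Sylow 2-subgroups -/
theorem rk_two_sylow {G : Type u} [Group G] [Finite G] {a b : G} (ha : a * a = 1) (hb : b * b = 1) (hab : a * b = b * a)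
    (ha1 : a ≠ 1) (hb1 : b ≠ 1) (hne : a ≠ b) (Q : Sylow 2 G) : Rk 2 Q := by
  have hp2 : Fact (Nat.Prime 2) := ⟨Nat.prime_two⟩
  refine rk_two_of_not_isCyclic Q.isPGroup' fun hc => ?_
  let K : Subgroup G := Subgroup.closure {a, b}
  have hcomm : ∀ x ∈ K, ∀ y ∈ K, x * y = y * x := by
    intro x hx y hy
    have h1 : K ≤ Subgroup.centralizer (K : Set G) := by
      have h2 : ({a, b} : Set G) ⊆ Subgroup.centralizer ({a, b} : Set G) := by
        rintro z (rfl | rfl) w (rfl | rfl)
        · rfl
        · exact hab.symm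
        · exact hab
        · rfl
      rw [Subgroup.closure_le]
      intro z hz
      rw [SetLike.mem_coe, Subgroup.mem_centralizer_iff]
      intro w hw
      have h3 : K ≤ Subgroup.centralizer ({z} : Set G) := by
        rw [Subgroup.closure_le]
        intro v hv
        rw [SetLike.mem_coe, Subgroup.mem_centralizer_iff]
        rintro _ rfl
        exact (h2 hv _ hz)
      exact (h3 hw z rfl).symm
    exact (h1 hy x hx)
  have hsq : ∀ x ∈ K, x ^ 2 = 1 := by
    intro x hx
    refine Subgroup.closure_induction (p := fun x _ => x ^ 2 = 1) ?_ ?_ ?_ ?_ hx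
    · rintro z (rfl | rfl)
      · rw [pow_two, ha]
      · rw [pow_two, hb]
    · rw [one_pow]
    · intro x y hx hy h1 h2
      have h3 := hcomm x hx y hy
      calc (x * y) ^ 2 = x * (y * x) * y := by rw [pow_two]; group
        _ = x * (x * y) * y := by rw [h3]
        _ = x ^ 2 * y ^ 2 := by rw [pow_two, pow_two]; group
        _ = 1 := by rw [h1, h2, mul_one]
    · intro x hx h1
      rw [inv_pow, h1, inv_one]
  have hKp : IsPGroup 2 K := fun x => ⟨1, Subtype.ext (by
    show (x : G) ^ 2 ^ 1 = 1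
    rw [pow_one]
    exact hsq x x.2)⟩
  obtain ⟨R, hcR, haR, hbR⟩ : ∃ R : Subgroup G, IsCyclic R ∧ a ∈ R ∧ b ∈ R := by
    obtain ⟨R, hR⟩ := hKp.exists_le_sylow
    exact ⟨R, isCyclic_of_surjective (Sylow.equiv Q R) (Sylow.equiv Q R).surjective,
      hR (Subgroup.subset_closure (by simp)), hR (Subgroup.subset_closure (by simp))⟩
  have hoa : orderOf (⟨a, haR⟩ : R) = 2 := by
    rw [orderOf_eq_prime_iff]
    refine ⟨Subtype.ext (by show a ^ 2 = 1; rw [pow_two, ha]), fun h => ha1 (congrArg Subtype.val h)⟩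
  have hob : orderOf (⟨b, hbR⟩ : R) = 2 := by
    rw [orderOf_eq_prime_iff]
    refine ⟨Subtype.ext (by show b ^ 2 = 1; rw [pow_two, hb]), fun h => hb1 (congrArg Subtype.val h)⟩
  have h1 : Nat.card {x : R // orderOf x = 2} ≤ 1 := by
    classical
    have := Fintype.ofFinite R
    have h0 : 2 ∣ Fintype.card R := by
      have := orderOf_dvd_card (x := (⟨a, haR⟩ : R))
      rwa [hoa] at this
    have h2 := IsCyclic.card_orderOf_eq_totient (α := R) (d := 2) h0
    rw [Nat.card_eq_fintype_card, Fintype.card_subtype]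
    exact (h2.trans Nat.totient_two).le
  have h2 : (⟨⟨a, haR⟩, hoa⟩ : {x : R // orderOf x = 2}) ≠ ⟨⟨b, hbR⟩, hob⟩ := by
    intro h
    exact hne (congrArg (fun z : {x : R // orderOf x = 2} => ((z : R) : G)) h)
  have h3 : Subsingleton {x : R // orderOf x = 2} := Finite.card_le_one_iff_subsingleton.1 h1
  exact h2 (Subsingleton.elim _ _)

/-- **The Sylow 2-subgroups of `Sym(n)`, `n ≥ 4`.** -/
theorem rk_two_perm {n : ℕ} (hn : 4 ≤ n) (Q : Sylow 2 (Equiv.Perm (Fin n))) : Rk 2 Q := by
  let i : Fin 4 → Fin n := fun k => ⟨k, by omega⟩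
  have hi : ∀ k l : Fin 4, i k = i l ↔ k = l := by
    intro k l
    constructor
    · intro h
      exact Fin.ext (congrArg (fun z : Fin n => (z : ℕ)) h)
    · rintro rfl
      rfl
  refine rk_two_sylow (a := Equiv.swap (i 0) (i 1)) (b := Equiv.swap (i 2) (i 3)) (Equiv.swap_mul_self _ _)
    (Equiv.swap_mul_self _ _) ?_ ?_ ?_ ?_ Q
  · have h1 : Equiv.Perm.Disjoint (Equiv.swap (i 0) (i 1)) (Equiv.swap (i 2) (i 3)) := by
      intro x
      by_cases h0 : x = i 0
      · right
        subst h0
        exact Equiv.swap_apply_of_ne_of_ne (by rw [Ne, hi]; decide) (by rw [Ne, hi]; decide)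
      · by_cases h1 : x = i 1
        · right
          subst h1
          exact Equiv.swap_apply_of_ne_of_ne (by rw [Ne, hi]; decide) (by rw [Ne, hi]; decide)
        · left
          exact Equiv.swap_apply_of_ne_of_ne h0 h1
    exact h1.commute
  · rw [Ne, Equiv.swap_eq_one_iff, hi]
    decide
  · rw [Ne, Equiv.swap_eq_one_iff, hi]
    decide
  · intro h
    have h1 := congrArg (fun z : Equiv.Perm (Fin n) => z (i 0)) h
    simp only [Equiv.swap_apply_left] at h1
    rw [Equiv.swap_apply_of_ne_of_ne (by rw [Ne, hi]; decide) (by rw [Ne, hi]; decide), hi] at h1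
    revert h1
    decide

end Cfsg.Agent.H716.K547
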