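import Cfsg.Agent.H821.K547.Defs
import Cfsg.Agent.H183.OutPSL
import Cfsg.Agent.H304.PpdClass

/-!
# S4547 (helper716): outer automorphisms of `PSL_n(q)`, `q ≡ 3 mod 4`: the squares are inner
-/

set_option autoImplicit false

namespace Cfsg.Agent.H716.K547

open Matrix Cfsg Cfsg.Agent.H821.K547
open Cfsg.Agent.ClassicalGeometry.AutPSL.Root
open Cfsg.Agent.ClassicalGeometry.AutPSL.Auto
open Cfsg.Agent.ClassicalGeometry.AutPSL.Main
open Cfsg.Agent.H183.OutPSL

variable {F : Type*} [Field F] [Fintype F] {n : ℕ}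

/-- field automorphisms of 2-power order -/
theorem fld_eq_one (h3 : Fintype.card F % 4 = 3) : ∀ (m : ℕ) (σ : F ≃+* F), σ ^ 2 ^ m = 1 → σ = 1 := by
  intro m
  induction m with
  | zero =>
    intro σ h
    rwa [pow_zero, pow_one] at h
  | succ m ih =>
    intro σ h
    have h1 : σ ^ 2 = 1 := by
      apply ih
      rw [← pow_mul, ← pow_succ']
      exact h
    by_contra hne
    obtain ⟨p, k, -, -, hF, -⟩ := H304.Ppd.exists_frobenius (σ := σ) hne (fun x => by
      have := RingEquiv.congr_fun h1 x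
      exact this)
    generalize p ^ k = s at hF
    rw [hF] at h3
    have h4 : s % 4 < 4 := Nat.mod_lt _ (by norm_num)
    rw [Nat.pow_mod] at h3
    interval_cases (s % 4) <;> simp at h3

omit [Fintype F] in
/-- powers -/
theorem pow_form (A : GL (Fin n) F) (σ : F ≃+* F) (m : ℕ) : ∃ A' : GL (Fin n) F,
    (cj A * fld σ) ^ m = cj A' * fld (σ ^ m) := by
  induction m with
  | zero => exact ⟨1, by rw [pow_zero, pow_zero, map_one, map_one, mul_one]⟩
  | succ m ih =>
    obtain ⟨A', hA'⟩ := ih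
    refine ⟨A' * fldGL (σ ^ m) A, ?_⟩
    rw [pow_succ, hA', pow_succ, map_mul, map_mul, mul_assoc, ← mul_assoc (fld (σ ^ m)), fld_mul_cj, mul_assoc, mul_assoc]

omit [Fintype F] in
/-- the square in the presence of the graph automorphism -/
theorem sq_form (A : GL (Fin n) F) (σ : F ≃+* F) :
    (cj A * fld σ * itr) * (cj A * fld σ * itr) = cj (A * fldGL σ (itrGL A)) * fld (σ * σ) := by
  calc (cj A * fld σ * itr) * (cj A * fld σ * itr) = cj A * fld σ * (itr * cj A) * (fld σ * itr) := by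
        simp only [mul_assoc]
    _ = cj A * (fld σ * cj (itrGL A)) * (itr * fld σ) * itr := by
        rw [itr_mul_cj]
        simp only [mul_assoc]
    _ = cj A * cj (fldGL σ (itrGL A)) * (fld σ * fld σ) * (itr * itr) := by
        rw [fld_mul_cj, ← fld_mul_itr]
        simp only [mul_assoc]
    _ = cj (A * fldGL σ (itrGL A)) * fld (σ * σ) := by
        rw [itr_mul_itr, mul_one, map_mul, map_mul]

omit [Fintype F] in
theorem isInn_iff {τ : MulAut (ProjectiveSpecialLinearGroup (Fin n) F)} :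
    (∃ s, ∀ x, τ x = s * x * s⁻¹) ↔ ∃ g : Matrix.SpecialLinearGroup (Fin n) F,
      τ = lift (cj (Matrix.SpecialLinearGroup.toGL g)) := by
  constructor
  · rintro ⟨s, hs⟩
    obtain ⟨g, rfl⟩ := pr_surjective s
    refine ⟨g, ?_⟩
    rw [lift_cj_toGL]
    exact MulEquiv.ext hs
  · rintro ⟨g, rfl⟩
    refine ⟨pr g, fun x => ?_⟩
    rw [lift_cj_toGL]
    rfl

omit [Fintype F] in
/-- comparison of the field parts -/
theorem fld_of_lift [Nontrivial (Fin n)] {A B : GL (Fin n) F} {σ : F ≃+* F} (h : lift (cj A * fld σ) = lift (cj B)) :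
    (∃ r : F, scalar (Fin n) r = ((B⁻¹ * A : GL (Fin n) F) : Matrix (Fin n) (Fin n) F)) ∧ σ = 1 := by
  have h1 : lift (cj (B⁻¹ * A) * fld σ) = lift (fld (1 : F ≃+* F)) := by
    rw [map_mul cj, mul_assoc, map_mul, h, ← map_mul, ← map_mul, inv_mul_cancel, map_one cj, map_one fld]
  exact injective_aux h1

omit [Fintype F] in
/-- inner by an element of determinant a power -/
theorem isInn_of_det {A : GL (Fin n) F} {s : F} (hs : s ≠ 0) (h : (A : Matrix (Fin n) (Fin n) F).det = s ^ n) :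
    ∃ g : Matrix.SpecialLinearGroup (Fin n) F, (lift (cj A) : MulAut (ProjectiveSpecialLinearGroup (Fin n) F)) =
      lift (cj (Matrix.SpecialLinearGroup.toGL g)) := by
  have h1 : (s⁻¹ • (A : Matrix (Fin n) (Fin n) F)).det = 1 := by
    rw [det_smul, Fintype.card_fin, h, ← mul_pow, inv_mul_cancel₀ hs, one_pow]
  refine ⟨⟨s⁻¹ • (A : Matrix (Fin n) (Fin n) F), h1⟩, ?_⟩
  have h2 : cj (A * (Matrix.SpecialLinearGroup.toGL ⟨s⁻¹ • (A : Matrix (Fin n) (Fin n) F), h1⟩)⁻¹) = 1 := by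
    refine cj_eq_one_of_scalar (r := s) ?_
    have h3 : ((A * (Matrix.SpecialLinearGroup.toGL ⟨s⁻¹ • (A : Matrix (Fin n) (Fin n) F), h1⟩)⁻¹ : GL (Fin n) F) :
        Matrix (Fin n) (Fin n) F) * ((Matrix.SpecialLinearGroup.toGL ⟨s⁻¹ • (A : Matrix (Fin n) (Fin n) F), h1⟩ :
        GL (Fin n) F) : Matrix (Fin n) (Fin n) F) = A := by
      rw [← Units.val_mul, inv_mul_cancel_right]
    have h4 : scalar (Fin n) s * ((Matrix.SpecialLinearGroup.toGL ⟨s⁻¹ • (A : Matrix (Fin n) (Fin n) F), h1⟩ :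
        GL (Fin n) F) : Matrix (Fin n) (Fin n) F) = A := by
      show scalar (Fin n) s * (s⁻¹ • (A : Matrix (Fin n) (Fin n) F)) = A
      rw [scalar_apply, ← smul_one_eq_diagonal, smul_mul_assoc, one_mul, smul_smul, mul_inv_cancel₀ hs, one_smul]
    exact (Units.mul_left_inj (Matrix.SpecialLinearGroup.toGL ⟨s⁻¹ • (A : Matrix (Fin n) (Fin n) F), h1⟩)).1
      (h4.trans h3.symm)
  rw [map_mul, map_inv, mul_inv_eq_one] at h2
  rw [h2]

/-- `q ≡ 3 mod 4`: if a 2-power of `x` is an `n`-th power then `x ^ 2` is an `n`-th power -/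
theorem exists_root (h3 : Fintype.card F % 4 = 3) {x r : F} (hx : x ≠ 0) {k : ℕ} (h : x ^ 2 ^ k = r ^ n) :
    ∃ s : F, s ≠ 0 ∧ x ^ 2 = s ^ n := by
  obtain ⟨m, hm⟩ : ∃ m, Fintype.card F - 1 = 2 * (2 * m + 1) := ⟨(Fintype.card F - 3) / 4, by omega⟩
  have h1 : (x ^ 2) ^ (2 * m + 1) = 1 := by
    rw [← pow_mul, ← hm]
    exact FiniteField.pow_card_sub_one_eq_one x hx
  have hco : Nat.Coprime (2 ^ k) (2 * m + 1) := Nat.Coprime.pow_left k (by simp)
  rcases Nat.eq_zero_or_pos m with rfl | hm0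
  · refine ⟨1, one_ne_zero, ?_⟩
    rw [one_pow]
    simpa using h1
  · obtain ⟨j, -, hj⟩ := Nat.exists_mul_mod_eq_one_of_coprime hco (by omega)
    have hr : r ≠ 0 ∨ n = 0 := by
      by_contra hcon
      push Not at hcon
      rw [hcon.1, zero_pow hcon.2] at h
      exact pow_ne_zero _ hx h
    have h2 : x ^ 2 = (x ^ 2) ^ (2 ^ k * j) := by
      have h4 : 2 ^ k * j = (2 * m + 1) * (2 ^ k * j / (2 * m + 1)) + 1 := by
        have := Nat.div_add_mod (2 ^ k * j) (2 * m + 1)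
        rw [hj] at this
        exact this.symm
      rw [h4, pow_add, pow_mul, h1, one_pow, one_mul, pow_one]
    have h5 : (x ^ 2) ^ (2 ^ k * j) = (r ^ (2 * j)) ^ n := by
      rw [← pow_mul, ← pow_mul]
      calc x ^ (2 * (2 ^ k * j)) = (x ^ 2 ^ k) ^ (2 * j) := by rw [← pow_mul]; congr 1; ring
        _ = r ^ (2 * j * n) := by rw [h, ← pow_mul]; congr 1; ring
    rcases hr with hr | hr
    · exact ⟨r ^ (2 * j), pow_ne_zero _ hr, h2.trans h5⟩
    · refine ⟨1, one_ne_zero, ?_⟩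
      rw [h2, h5, hr, pow_zero, pow_zero]

/-- **`q ≡ 3 mod 4`: the square of an outer automorphism of 2-power order is inner.** -/
theorem sq_inner (h3 : Fintype.card F % 4 = 3) (hn : 3 ≤ n) (τ : MulAut (ProjectiveSpecialLinearGroup (Fin n) F))
    (hτ : TwoPow τ) : ∃ s, ∀ x, (τ ^ 2) x = s * x * s⁻¹ := by
  rw [isInn_iff]
  obtain ⟨p, hp⟩ := CharP.exists F
  have : Fact p.Prime := ⟨CharP.char_is_prime F p⟩
  have : Nontrivial (Fin n) := Fin.nontrivial_iff_two_le.2 (by omega)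
  obtain ⟨k, hk⟩ := hτ
  obtain ⟨g, hg⟩ := isInn_iff.1 hk
  rcases surj_three p hn τ with ⟨A, σ, rfl⟩ | ⟨A, σ, rfl⟩
  · obtain ⟨A', hA'⟩ := pow_form A σ (2 ^ k)
    rw [← map_pow, hA'] at hg
    have hσ : σ = 1 := fld_eq_one h3 k σ (fld_of_lift hg).2
    subst hσ
    rw [map_one, mul_one]
    rw [map_one, mul_one, one_pow, map_one, mul_one] at hA'
    rw [one_pow, map_one, mul_one, ← hA', ← map_pow] at hg
    have h1 := (fld_of_lift (σ := 1) (A := A ^ 2 ^ k) (B := Matrix.SpecialLinearGroup.toGL g) (by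
      rw [map_one, mul_one]
      exact hg)).1
    obtain ⟨r, hr⟩ := h1
    have hdet : ((A : Matrix (Fin n) (Fin n) F).det) ^ 2 ^ k = r ^ n := by
      have h5 : ((A ^ 2 ^ k : GL (Fin n) F) : Matrix (Fin n) (Fin n) F) =
          (g : Matrix (Fin n) (Fin n) F) * scalar (Fin n) r := by
        rw [hr]
        show _ = ((Matrix.SpecialLinearGroup.toGL g : GL (Fin n) F) : Matrix (Fin n) (Fin n) F) * _
        rw [← Units.val_mul, mul_inv_cancel_left]
      have h6 := congrArg Matrix.det h5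
      rw [Units.val_pow_eq_pow_val, det_pow, det_mul, g.2, one_mul, scalar_apply, det_diagonal, Finset.prod_const,
        Finset.card_univ, Fintype.card_fin] at h6
      exact h6
    have hx0 : (A : Matrix (Fin n) (Fin n) F).det ≠ 0 := by
      have := (Matrix.GeneralLinearGroup.det A).ne_zero
      exact this
    obtain ⟨s, hs0, hs⟩ := exists_root h3 hx0 hdet
    rw [← map_pow, ← map_pow]
    refine isInn_of_det (A := A ^ 2) hs0 ?_
    rw [Units.val_pow_eq_pow_val, det_pow]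
    exact hs
  · have hsq : (lift (cj A * fld σ * itr) : MulAut (ProjectiveSpecialLinearGroup (Fin n) F)) ^ 2 =
        lift (cj (A * fldGL σ (itrGL A)) * fld (σ * σ)) := by
      rw [← map_pow, pow_two, sq_form]
    obtain ⟨A', hA'⟩ := pow_form (A * fldGL σ (itrGL A)) (σ * σ) (2 ^ k)
    have h1 : lift (cj A' * fld ((σ * σ) ^ 2 ^ k)) = lift (cj (Matrix.SpecialLinearGroup.toGL (g * g))) := by
      rw [← hA', map_pow lift, ← hsq, ← pow_mul, mul_comm, pow_mul, hg, ← map_pow, ← map_pow, ← map_pow, pow_two]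
    have h2 : σ * σ = 1 := fld_eq_one h3 k _ (fld_of_lift h1).2
    have hσ : σ = 1 := fld_eq_one h3 1 σ (by rw [pow_one, pow_two]; exact h2)
    subst hσ
    rw [hsq, mul_one, map_one fld, mul_one]
    refine isInn_of_det (s := 1) one_ne_zero ?_
    have h4 : (fldGL (1 : F ≃+* F) (itrGL A) : GL (Fin n) F) = itrGL A := by
      apply Units.ext
      rw [coe_fldGL]
      ext i j
      rfl
    rw [h4, Units.val_mul, det_mul]
    have h5 : ((itrGL A : GL (Fin n) F) : Matrix (Fin n) (Fin n) F) = ((A⁻¹ : GL (Fin n) F) : Matrix (Fin n) (Fin n) F)ᵀ := rfl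
    rw [h5, det_transpose, ← det_mul, ← Units.val_mul, mul_inv_cancel, Units.val_one, det_one, one_pow]

end Cfsg.Agent.H716.K547
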